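import Cfsg.Agent.S3007

/-!
# Replacement for minimal centrally large subgroups

If `Q` is a minimal centrally large subgroup, `X = Z(Q)` and `x` is an element such that the
commutators `⁅x, a⁆` (`a ∈ X`) commute pairwise (for instance `x` lies in an abelian subgroup
permutable with `X`, by Itô's argument), then there is a minimal centrally large subgroup whose
centre lies at least as deep in the upper central series, strictly unless `x` normalizes `Q`.
-/

set_option autoImplicit false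

namespace Cfsg.Agent.Lib.CD

open Subgroup
open scoped commutatorElement Pointwise

variable {G : Type*} [Group G]

/-- Itô's computation: in a product of two abelian subgroups the commutators commute. -/
theorem commute_commutators (A B : Subgroup G) (hA : A ≤ centralizer (A : Set G))
    (hB : B ≤ centralizer (B : Set G))
    (hAB : ((A ⊔ B : Subgroup G) : Set G) = (A : Set G) * (B : Set G))
    {a a₁ b b₁ : G} (ha : a ∈ A) (h₁ : a₁ ∈ A) (hb : b ∈ B) (h₁' : b₁ ∈ B) :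
    Commute ⁅a, b⁆ ⁅a₁, b₁⁆ := by
  have cA : ∀ {u v : G}, u ∈ A → v ∈ A → Commute u v := fun hu hv => (hA hv) _ hu
  have cB : ∀ {u v : G}, u ∈ B → v ∈ B → Commute u v := fun hu hv => (hB hv) _ hu
  have eAB : ∀ g ∈ A ⊔ B, ∃ u ∈ A, ∃ v ∈ B, u * v = g := fun g hg =>
    Set.mem_mul.1 (hAB.subset hg)
  have eBA : ∀ g ∈ A ⊔ B, ∃ v ∈ B, ∃ u ∈ A, v * u = g := fun g hg => by
    obtain ⟨u, hu, v, hv, e⟩ := eAB g⁻¹ (inv_mem hg)
    exact ⟨v⁻¹, inv_mem hv, u⁻¹, inv_mem hu, by rw [← mul_inv_rev, e, inv_inv]⟩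
  obtain ⟨b₂, hb₂, a₂, ha₂, e₂⟩ := eBA (a₁⁻¹ * b * a₁)
    (mul_mem (mul_mem (mem_sup_left (inv_mem h₁)) (mem_sup_right hb)) (mem_sup_left h₁))
  obtain ⟨a₃, ha₃, b₃, hb₃, e₃⟩ := eAB (b₁⁻¹ * a * b₁)
    (mul_mem (mul_mem (mem_sup_right (inv_mem h₁')) (mem_sup_left ha)) (mem_sup_right h₁'))
  have rA : ∀ u ∈ A, ∀ v : G, ∀ w ∈ A, ⁅u, v * w⁆ = ⁅u, v⁆ := by
    intro u hu v w hw
    calc ⁅u, v * w⁆ = u * v * (w * u⁻¹) * w⁻¹ * v⁻¹ := by simp [commutatorElement_def, mul_assoc]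
      _ = u * v * (u⁻¹ * w) * w⁻¹ * v⁻¹ := by rw [(cA (inv_mem hu) hw).eq]
      _ = ⁅u, v⁆ := by simp [commutatorElement_def, mul_assoc]
  have rB : ∀ v ∈ B, ∀ u : G, ∀ w ∈ B, ⁅u * w, v⁆ = ⁅u, v⁆ := by
    intro v hv u w hw
    calc ⁅u * w, v⁆ = u * (w * v) * w⁻¹ * u⁻¹ * v⁻¹ := by simp [commutatorElement_def, mul_assoc]
      _ = u * (v * w) * w⁻¹ * u⁻¹ * v⁻¹ := by rw [(cB hw hv).eq]
      _ = ⁅u, v⁆ := by simp [commutatorElement_def, mul_assoc]
  have sA : ∀ u ∈ A, a₁⁻¹ * u * a₁ = u := fun u hu => by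
    rw [mul_assoc, (cA hu h₁).eq, inv_mul_cancel_left]
  have sB : ∀ v ∈ B, b₁⁻¹ * v * b₁ = v := fun v hv => by
    rw [mul_assoc, (cB hv h₁').eq, inv_mul_cancel_left]
  have conjc : ∀ c u v : G, c⁻¹ * ⁅u, v⁆ * c = ⁅c⁻¹ * u * c, c⁻¹ * v * c⁆ := by
    intro c u v; simp [commutatorElement_def, mul_assoc]
  have k1 : a₁⁻¹ * (b₁⁻¹ * ⁅a, b⁆ * b₁) * a₁ = ⁅a₃, b₂⁆ := by
    rw [conjc b₁, sB b hb, ← e₃, rB b hb a₃ b₃ hb₃, conjc a₁, sA a₃ ha₃, ← e₂, rA a₃ ha₃ b₂ a₂ ha₂]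
  have k2 : b₁⁻¹ * (a₁⁻¹ * ⁅a, b⁆ * a₁) * b₁ = ⁅a₃, b₂⁆ := by
    rw [conjc a₁, sA a ha, ← e₂, rA a ha b₂ a₂ ha₂, conjc b₁, sB b₂ hb₂, ← e₃, rB b₂ hb₂ a₃ b₃ hb₃]
  have k3 : ⁅a, b⁆ = ⁅b₁, a₁⁆ * ⁅a, b⁆ * ⁅b₁, a₁⁆⁻¹ := by
    calc ⁅a, b⁆ = (b₁ * a₁) * (a₁⁻¹ * (b₁⁻¹ * ⁅a, b⁆ * b₁) * a₁) * (b₁ * a₁)⁻¹ := by group
      _ = (b₁ * a₁) * (b₁⁻¹ * (a₁⁻¹ * ⁅a, b⁆ * a₁) * b₁) * (b₁ * a₁)⁻¹ := by rw [k1, k2]
      _ = _ := by simp [commutatorElement_def, mul_assoc]
  have k4 : Commute ⁅b₁, a₁⁆ ⁅a, b⁆ := (eq_mul_inv_iff_mul_eq.1 k3).symm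
  rw [← commutatorElement_inv b₁ a₁]
  exact k4.symm.inv_right

theorem isMinimalCentrallyLarge_map [Finite G] (e : G ≃* G) {Q : Subgroup G}
    (hQ : IsMinimalCentrallyLarge Q) : IsMinimalCentrallyLarge (Q.map e.toMonoidHom) := by
  have hiff : ∀ (f : G ≃* G) (R : Subgroup G), IsCentrallyLarge R →
      IsCentrallyLarge (R.map f.toMonoidHom) := by
    intro f R hR
    unfold IsCentrallyLarge at hR ⊢
    have e1 : R ≃* R.map f.toMonoidHom := f.subgroupMap R
    rw [← Nat.card_congr e1.toEquiv, ← Nat.card_congr (Subgroup.centerCongr e1).toEquiv]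
    exact hR
  refine ⟨hiff e Q hQ.1, fun R' hle hR' => ?_⟩
  have h1 := hQ.2 _ ?_ (hiff e.symm R' hR')
  · conv_rhs => rw [← h1]
    rw [Subgroup.map_map]
    convert (Subgroup.map_id R').symm using 2
    ext; simp
  · intro z hz
    obtain ⟨r, hr, rfl⟩ := Subgroup.mem_map.1 hz
    obtain ⟨q, hq, rfl⟩ := Subgroup.mem_map.1 (hle hr)
    simpa using hq

/-- The weight of a minimal centrally large subgroup: how deep its centre lies in the upper
central series. -/
noncomputable def centreDepth (n : ℕ) (Q : Subgroup G) : ℕ :=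
  ∑ i ∈ Finset.range n, Nat.card ↥(centralizer (Q : Set G) ⊓ Subgroup.upperCentralSeries G i)

/-- A minimal centrally large subgroup of greatest weight is normalized by every element whose
commutators with its centre commute pairwise. -/
theorem exists_deeper {p : ℕ} [Fact p.Prime] [Finite G] (hG : IsPGroup p G) {n : ℕ}
    (hn : Subgroup.upperCentralSeries G n = ⊤) {Q : Subgroup G} (hQ : IsMinimalCentrallyLarge Q)
    (hmax : ∀ R : Subgroup G, IsMinimalCentrallyLarge R → centreDepth n R ≤ centreDepth n Q)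
    (x : G) (hM : ∀ a ∈ centralizer (Q : Set G), ∀ b ∈ centralizer (Q : Set G),
      Commute ⁅x, a⁆ ⁅x, b⁆) :
    x ∈ normalizer (Q : Set G) := by
  obtain ⟨hQ1, hQ2⟩ := (centrallyLarge_iff Q).1 hQ.1
  set X := centralizer (Q : Set G) with hXdef
  have hCX : centralizer (X : Set G) = Q := (centralizerLarge_centralizer hQ1).2
  set φ := (MulAut.conj x).toMonoidHom with hφ
  set Q' := Q.map φ with hQ'
  have hQ'm : IsMinimalCentrallyLarge Q' := isMinimalCentrallyLarge_map (MulAut.conj x) hQ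
  have hQeq : (Q ⊓ Q') ⊔ X = Q := by
    have := (Cfsg.Agent.S3007.result G hG Q Q' hQ hQ'm).1
    rwa [inf_eq_right.2 hQ2] at this
  set C₀ := Q ⊓ Q' with hC₀
  set K := X ⊓ Q.comap φ with hK
  set d : G → G := fun a => ⁅x, a⁆ with hd
  set M := closure (d '' (X : Set G)) with hMdef
  have cX : ∀ {u v : G}, u ∈ X → v ∈ X → Commute u v := fun {u v} hu hv => (hv u (hQ2 hu))
  have dmul : ∀ u v, d (u * v) = d u * (u * d v * u⁻¹) := by
    intro u v; simp [hd, commutatorElement_def, mul_assoc]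
  have dK : ∀ a ∈ X, (a ∈ K ↔ d a ∈ Q) := by
    intro a ha
    have e : x * a * x⁻¹ = d a * a := by simp [hd, commutatorElement_def, mul_assoc]
    show a ∈ X ∧ φ a ∈ Q ↔ d a ∈ Q
    simp only [hφ, MulEquiv.coe_toMonoidHom, MulAut.conj_apply, e]
    exact ⟨fun h => by simpa using mul_mem h.2 (inv_mem (hQ2 ha)), fun h => ⟨ha, mul_mem h (hQ2 ha)⟩⟩
  have dcomm : ∀ a ∈ X, ∀ b ∈ X, a ∈ K → Commute a (d b) := by
    intro a ha b hb haK
    have h1 : d a * (a * d b * a⁻¹) = d b * (b * d a * b⁻¹) := by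
      rw [← dmul, ← dmul, (cX ha hb).eq]
    have h2 : b * d a * b⁻¹ = d a := by
      rw [← (show Commute (d a) b from (hb (d a) ((dK a ha).1 haK))).eq, mul_inv_cancel_right]
    rw [h2, ← (hM a ha b hb).eq] at h1
    exact mul_inv_eq_iff_eq_mul.1 (mul_left_cancel h1)
  have hKM : K ≤ centralizer (M : Set G) := by
    rw [hMdef, centralizer_closure]
    rintro a haK _ ⟨b, hb, rfl⟩
    exact (dcomm a haK.1 b hb haK).eq.symm
  have hMM : M ≤ centralizer (M : Set G) := by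
    conv_rhs => rw [hMdef, centralizer_closure]
    rw [hMdef, closure_le]
    rintro _ ⟨a, ha, rfl⟩ _ ⟨b, hb, rfl⟩
    exact (hM b hb a ha).eq
  have hconj : ∀ q ∈ Q', ∀ a ∈ X, Commute q (x * a * x⁻¹) := by
    intro q hq a ha
    obtain ⟨q₀, hq₀, rfl⟩ := mem_map.1 hq
    exact (Commute.map (ha q₀ hq₀) φ : Commute (φ q₀) (φ a))
  have hC₀M : C₀ ≤ centralizer (M : Set G) := by
    rw [hMdef, centralizer_closure]
    rintro c ⟨hcQ, hcQ'⟩ _ ⟨a, ha, rfl⟩
    show d a * c = c * d a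
    refine Commute.eq ?_
    have := ((hconj c hcQ' a ha).mul_right ((show Commute c a from ha c hcQ).inv_right)).symm
    simpa [hd, commutatorElement_def, mul_assoc] using this
  have hKC₀ : K ≤ C₀ := by
    intro a haK
    refine ⟨hQ2 haK.1, mem_map.2 ⟨x⁻¹ * a * x, ?_, by simp [hφ, mul_assoc]⟩⟩
    rw [← hCX]
    intro b hb
    have h1 : Commute a (x * b * x⁻¹) := by
      have := (dcomm a haK.1 b hb haK).mul_right (cX haK.1 hb)
      simpa [hd, commutatorElement_def, mul_assoc] using this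
    exact (Commute.map h1.symm (MulAut.conj x⁻¹).toMonoidHom : _) |> fun h => by
      simpa [Commute, SemiconjBy, mul_assoc] using h
  -- the key count
  have count : ∀ W V : Subgroup G, W ≤ X → (∀ w ∈ W, d w ∈ V) →
      Nat.card W * Nat.card ↥(M ⊓ V ⊓ C₀) ≤ Nat.card ↥(K ⊓ W) * Nat.card ↥(M ⊓ V) := by
    intro W V hWX hWV
    let f : ↥W ⧸ K.subgroupOf W → ↥(M ⊓ V) ⧸ C₀.subgroupOf (M ⊓ V) := fun q =>
      QuotientGroup.mk ⟨d (q.out : G),
        subset_closure ⟨_, hWX q.out.2, rfl⟩, hWV _ q.out.2⟩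
    have hf : Function.Injective f := by
      intro q r h
      rw [← QuotientGroup.out_eq' q, ← QuotientGroup.out_eq' r, QuotientGroup.eq]
      have h' : (d (q.out : G))⁻¹ * d (r.out : G) ∈ C₀ :=
        (QuotientGroup.eq (s := C₀.subgroupOf (M ⊓ V))).1 h
      show ((q.out : G))⁻¹ * (r.out : G) ∈ K
      have ha : (q.out : G) ∈ X := hWX q.out.2
      have hc : (q.out : G)⁻¹ * (r.out : G) ∈ X := mul_mem (inv_mem ha) (hWX r.out.2)
      rw [dK _ hc]
      generalize hce : (q.out : G)⁻¹ * (r.out : G) = c at hc ⊢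
      rw [show (r.out : G) = (q.out : G) * c by rw [← hce, mul_inv_cancel_left], dmul,
        inv_mul_cancel_left] at h'
      have h3 : Commute ((q.out : G) * d c * (q.out : G)⁻¹) (q.out : G) := ha _ h'.1
      have h4 : (q.out : G) * d c * (q.out : G)⁻¹ = d c := by
        have h5 := congrArg (fun t => (q.out : G)⁻¹ * t) h3.eq
        simpa [mul_assoc] using h5.symm
      exact h4 ▸ h'.1
    have h := Nat.card_le_card_of_injective f hf
    have e1 := Subgroup.card_eq_card_quotient_mul_card_subgroup (K.subgroupOf W)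
    have e2 := Subgroup.card_eq_card_quotient_mul_card_subgroup (C₀.subgroupOf (M ⊓ V))
    rw [← card_map_of_injective (f := W.subtype) W.subtype_injective, subgroupOf_map_subtype] at e1
    rw [← card_map_of_injective (f := (M ⊓ V).subtype) (M ⊓ V).subtype_injective,
      subgroupOf_map_subtype] at e2
    rw [e1, e2, inf_comm C₀ (M ⊓ V)]
    calc Nat.card (↥W ⧸ K.subgroupOf W) * Nat.card ↥(K ⊓ W) * Nat.card ↥(M ⊓ V ⊓ C₀)
        ≤ Nat.card (↥(M ⊓ V) ⧸ C₀.subgroupOf (M ⊓ V)) * Nat.card ↥(K ⊓ W) *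
          Nat.card ↥(M ⊓ V ⊓ C₀) := by gcongr
      _ = _ := by ring
  set Y := K ⊔ M with hY
  set T := C₀ ⊔ M with hT
  -- the new subgroup
  have hYT : Y ≤ T := sup_le (hKC₀.trans le_sup_left) le_sup_right
  have hTY : T ≤ centralizer (Y : Set G) := by
    rw [hY, centralizer_sup]
    refine sup_le (le_inf (inf_le_left.trans ?_) hC₀M) (le_inf (le_centralizer_iff.1 hKM) hMM)
    exact hCX.ge.trans (centralizer_le (SetLike.coe_subset_coe.2 inf_le_left))
  have c0 : Nat.card X * Nat.card ↥(M ⊓ C₀) ≤ Nat.card K * Nat.card M := by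
    have := count X ⊤ le_rfl (fun w hw => mem_top _)
    rwa [inf_eq_left.2 (inf_le_left : K ≤ X), inf_top_eq] at this
  have cY : Nat.card X ≤ Nat.card Y := by
    refine Nat.le_of_mul_le_mul_right (c := Nat.card ↥(M ⊓ C₀)) (c0.trans ?_) Nat.card_pos
    refine (card_mul_card_le K M).trans (Nat.mul_le_mul_left _ ?_)
    exact card_le_of_le (le_inf inf_le_right (inf_le_left.trans hKC₀))
  have cT : Nat.card Q ≤ Nat.card T := by
    have hn : X ≤ normalizer (C₀ : Set G) :=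
      le_trans (fun u hu => centralizer_le (SetLike.coe_subset_coe.2 (inf_le_left : C₀ ≤ Q)) hu)
        (centralizer_le_normalizer _)
    have e : Nat.card Q * Nat.card ↥(C₀ ⊓ X) = Nat.card C₀ * Nat.card X := by
      have h := card_setMul_mul_card_inf C₀ X
      rwa [← coe_mul_of_right_le_normalizer_left _ _ hn, hQeq] at h
    have hKle : Nat.card K ≤ Nat.card ↥(C₀ ⊓ X) := card_le_of_le (le_inf hKC₀ inf_le_left)
    refine Nat.le_of_mul_le_mul_right (c := Nat.card K * Nat.card ↥(C₀ ⊓ M))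
      ?_ (Nat.mul_pos Nat.card_pos Nat.card_pos)
    calc Nat.card Q * (Nat.card K * Nat.card ↥(C₀ ⊓ M))
        ≤ Nat.card Q * (Nat.card ↥(C₀ ⊓ X) * Nat.card ↥(C₀ ⊓ M)) := by gcongr
      _ = Nat.card C₀ * (Nat.card X * Nat.card ↥(M ⊓ C₀)) := by rw [← mul_assoc, e, inf_comm M]; ring
      _ ≤ Nat.card C₀ * (Nat.card K * Nat.card M) := by gcongr
      _ ≤ Nat.card K * (Nat.card ↥(C₀ ⊔ M) * Nat.card ↥(C₀ ⊓ M)) := by
          rw [mul_left_comm]; exact Nat.mul_le_mul_left _ (card_mul_card_le C₀ M)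
      _ = _ := by rw [hT]; ring
  have hmx : Nat.card Q * Nat.card X = maxCentralizerProduct G := hQ1
  have hYm := cdMeasure_le_max Y
  unfold cdMeasure at hYm
  have hTc : Nat.card T ≤ Nat.card ↥(centralizer (Y : Set G)) := card_le_of_le hTY
  have hle : Nat.card Y * Nat.card ↥(centralizer (Y : Set G)) ≤ Nat.card Q * Nat.card X :=
    hYm.trans hmx.ge
  have eY : Nat.card Y = Nat.card X := le_antisymm
    (Nat.le_of_mul_le_mul_right ((Nat.mul_le_mul_left _ (cT.trans hTc)).trans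
      (hle.trans (le_of_eq (mul_comm _ _)))) Nat.card_pos) cY
  have eT : Nat.card ↥(centralizer (Y : Set G)) ≤ Nat.card Q := by
    refine Nat.le_of_mul_le_mul_left (c := Nat.card X) ?_ Nat.card_pos
    calc _ = Nat.card Y * Nat.card ↥(centralizer (Y : Set G)) := by rw [eY]
      _ ≤ _ := hle.trans (le_of_eq (mul_comm _ _))
  have hTeq : centralizer (Y : Set G) = T :=
    (eq_of_le_of_card_ge hTY (eT.trans cT)).symm
  have hYl : IsCentralizerLarge Y := centralizerLarge_of_le (by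
    unfold cdMeasure; rw [← hmx, mul_comm (Nat.card Q)]; exact Nat.mul_le_mul eY.ge (cT.trans hTc))
  obtain ⟨hTl, hTC⟩ := centralizerLarge_centralizer hYl
  rw [hTeq] at hTl hTC
  have hTCL : IsCentrallyLarge T := (centrallyLarge_iff T).2 ⟨hTl, hTC.le.trans hYT⟩
  have hTmin : IsMinimalCentrallyLarge T := by
    obtain ⟨R, hR, hRm⟩ := exists_minimalCentrallyLarge_le hTCL
    have hc := (Cfsg.Agent.S3007.result G hG Q R hQ hRm).2.2.1
    rwa [eq_of_le_of_card_ge hR (by rw [← hTeq, ← hc]; exact eT)] at hRm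
  -- depth
  have hdW : ∀ i, ∀ w ∈ X ⊓ Subgroup.upperCentralSeries G (i + 1), d w ∈ Subgroup.upperCentralSeries G i := by
    intro i w hw
    have := inv_mem ((Subgroup.mem_upperCentralSeries_succ_iff.1 hw.2) x)
    simpa [hd] using this
  have hup : ∀ i, Nat.card ↥(K ⊓ Subgroup.upperCentralSeries G i) * Nat.card ↥(M ⊓ Subgroup.upperCentralSeries G i) ≤
      Nat.card ↥(Y ⊓ Subgroup.upperCentralSeries G i) * Nat.card ↥(M ⊓ Subgroup.upperCentralSeries G i ⊓ C₀) := by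
    intro i
    refine (card_mul_card_le _ _).trans (Nat.mul_le_mul ?_ ?_)
    · exact card_le_of_le (sup_le (inf_le_inf_right _ le_sup_left) (inf_le_inf_right _ le_sup_right))
    · exact card_le_of_le (le_inf inf_le_right (inf_le_left.trans (inf_le_left.trans hKC₀)))
  have hge : ∀ i, Nat.card ↥(X ⊓ Subgroup.upperCentralSeries G i) ≤ Nat.card ↥(Y ⊓ Subgroup.upperCentralSeries G i) := by
    intro i
    set U := Subgroup.upperCentralSeries G i
    set U' := Subgroup.upperCentralSeries G (i + 1)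
    have hUU : U ≤ U' := Subgroup.upperCentralSeries_mono G (Nat.le_succ i)
    have h1 : Nat.card ↥(X ⊓ U) * Nat.card ↥(K ⊓ U') ≤
        Nat.card ↥(X ⊓ U') * Nat.card ↥(K ⊓ U) := by
      refine (card_mul_card_le _ _).trans (Nat.mul_le_mul ?_ ?_)
      · exact card_le_of_le (sup_le (inf_le_inf_left _ hUU) (inf_le_inf_right _ inf_le_left))
      · exact card_le_of_le (le_inf (inf_le_right.trans inf_le_left) (inf_le_left.trans inf_le_right))
    have h2 := count _ _ inf_le_left (hdW i)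
    rw [← inf_assoc K X, inf_eq_left.2 (inf_le_left : K ≤ X)] at h2
    refine Nat.le_of_mul_le_mul_right
      (c := Nat.card ↥(K ⊓ U') * Nat.card ↥(M ⊓ U ⊓ C₀)) ?_ (Nat.mul_pos Nat.card_pos Nat.card_pos)
    calc _ = Nat.card ↥(X ⊓ U) * Nat.card ↥(K ⊓ U') * Nat.card ↥(M ⊓ U ⊓ C₀) := by ring
      _ ≤ Nat.card ↥(X ⊓ U') * Nat.card ↥(K ⊓ U) * Nat.card ↥(M ⊓ U ⊓ C₀) := by gcongr
      _ = Nat.card ↥(K ⊓ U) * (Nat.card ↥(X ⊓ U') * Nat.card ↥(M ⊓ U ⊓ C₀)) := by ring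
      _ ≤ Nat.card ↥(K ⊓ U) * (Nat.card ↥(K ⊓ U') * Nat.card ↥(M ⊓ U)) := by gcongr
      _ = Nat.card ↥(K ⊓ U') * (Nat.card ↥(K ⊓ U) * Nat.card ↥(M ⊓ U)) := by ring
      _ ≤ Nat.card ↥(K ⊓ U') * (Nat.card ↥(Y ⊓ U) * Nat.card ↥(M ⊓ U ⊓ C₀)) :=
          Nat.mul_le_mul_left _ (hup i)
      _ = _ := by ring
  by_cases hXK : X ≤ K
  · have hle' : Q ≤ Q' := hQeq.ge.trans (sup_le inf_le_right ((hXK.trans hKC₀).trans inf_le_right))
    have he : Q = Q' := eq_of_le_of_card_ge hle'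
      (Cfsg.Agent.S3007.result G hG Q Q' hQ hQ'm).2.2.1.ge
    exact mem_normalizer_iff.2 (fun q => by
      conv_rhs => rw [he]
      rw [hQ', hφ, mem_map_equiv]
      simp [mul_assoc])
  · exfalso
    classical
    have hex : ∃ j, ¬ X ⊓ Subgroup.upperCentralSeries G j ≤ K := ⟨n, by rw [hn, inf_top_eq]; exact hXK⟩
    obtain ⟨j, hj⟩ : ∃ j, Nat.find hex = j + 1 := by
      refine Nat.exists_eq_succ_of_ne_zero fun h0 => ?_
      have := Nat.find_spec hex
      rw [h0, Subgroup.upperCentralSeries_zero, inf_bot_eq] at this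
      exact this bot_le
    have hjn : j < n := by
      have := Nat.find_min' hex (m := n) (by rw [hn, inf_top_eq]; exact hXK)
      omega
    have hXU : X ⊓ Subgroup.upperCentralSeries G j ≤ K := by
      by_contra hh
      have := Nat.find_min' hex hh
      omega
    have hspec := Nat.find_spec hex
    rw [hj] at hspec
    have hlt : Nat.card ↥(X ⊓ Subgroup.upperCentralSeries G j) < Nat.card ↥(Y ⊓ Subgroup.upperCentralSeries G j) := by
      set U := Subgroup.upperCentralSeries G j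
      set U' := Subgroup.upperCentralSeries G (j + 1)
      have h2 := count _ _ inf_le_left (hdW j)
      rw [← inf_assoc K X, inf_eq_left.2 (inf_le_left : K ≤ X)] at h2
      have e : X ⊓ U = K ⊓ U := le_antisymm (le_inf hXU inf_le_right) (inf_le_inf_right _ inf_le_left)
      have hlt' : Nat.card ↥(K ⊓ U') < Nat.card ↥(X ⊓ U') := by
        refine lt_of_not_ge fun hh => hspec ?_
        rw [← eq_of_le_of_card_ge (inf_le_inf_right U' (inf_le_left : K ≤ X)) hh]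
        exact inf_le_left
      refine Nat.lt_of_mul_lt_mul_right (a := Nat.card ↥(X ⊓ U') * Nat.card ↥(M ⊓ U ⊓ C₀)) ?_
      calc Nat.card ↥(X ⊓ U) * (Nat.card ↥(X ⊓ U') * Nat.card ↥(M ⊓ U ⊓ C₀))
          ≤ Nat.card ↥(X ⊓ U) * (Nat.card ↥(K ⊓ U') * Nat.card ↥(M ⊓ U)) := by gcongr
        _ = Nat.card ↥(K ⊓ U') * (Nat.card ↥(K ⊓ U) * Nat.card ↥(M ⊓ U)) := by rw [e]; ring
        _ ≤ Nat.card ↥(K ⊓ U') * (Nat.card ↥(Y ⊓ U) * Nat.card ↥(M ⊓ U ⊓ C₀)) :=
            Nat.mul_le_mul_left _ (hup j)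
        _ < Nat.card ↥(X ⊓ U') * (Nat.card ↥(Y ⊓ U) * Nat.card ↥(M ⊓ U ⊓ C₀)) :=
            Nat.mul_lt_mul_of_pos_right hlt' (Nat.mul_pos Nat.card_pos Nat.card_pos)
        _ = _ := by ring
    refine absurd (hmax T hTmin) (not_le.2 ?_)
    unfold centreDepth
    rw [hTC]
    exact Finset.sum_lt_sum (fun i _ => hge i) ⟨j, Finset.mem_range.2 hjn, hlt⟩

end Cfsg.Agent.Lib.CD
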